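import Cfsg.Agent.Lib.Chevalley.E7SixtyFive.Weyl
import Cfsg.Agent.Lib.Chevalley.ToralCentralizer
import Cfsg.Agent.Lib.Chevalley.Twist.Torus2

/-!
The group E₇(2) has no element of order sixty-five.
-/

set_option autoImplicit false
set_option maxRecDepth 20000

namespace CfsgLib.Chevalley.E7SixtyFive

open Tbl hiding X
open scoped Matrix
open CfsgLib.Chevalley.CoxeterTorus
open CfsgLib.KnownB.FieldAut (mapGL mapGL_inj map_torus map_group)

section General

variable {T : Tbl} {K : Type*} [Field K]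

theorem tCh_mul' (f g : Fin T.rank → Kˣ) (s : ℕ) : tCh T (f * g) s = tCh T f s * tCh T g s := by
  simp [tCh, mul_zpow, Finset.prod_mul_distrib]

theorem cast_val' {ℓ : ℕ} (μ : Fin T.rank → ℤ) (s : ℕ) : (val T μ s : ZMod ℓ) =
    (fun j => (μ j : ZMod ℓ)) ⬝ᵥ fun j : Fin T.rank => (T.co s j.val : ZMod ℓ) := by
  simp [val, dotProduct]

variable (hT : T.Valid)
include hT

theorem exists_log' {ℓ : ℕ} [Fact ℓ.Prime] {ζ : Kˣ} (hζ : orderOf ζ = ℓ) {f : Fin T.rank → Kˣ}
    (hf : f ^ ℓ = 1) :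
    ∃ a : Fin T.rank → ℤ, ∀ u : Fin T.n, tCh T f u.val = ζ ^ val T a u.val := by
  have hlog : ∀ j : Fin T.rank, ∃ k : ℤ, ζ ^ k = tCh T f (T.simple j.val) := by
    intro j
    have h1 : IsPrimitiveRoot ζ ℓ := hζ ▸ IsPrimitiveRoot.orderOf ζ
    refine Subgroup.mem_zpowers_iff.1 ?_
    rw [h1.zpowers_eq, mem_rootsOfUnity, ← tCh_pow, hf]
    simp [tCh]
  choose a ha using hlog
  refine ⟨a, fun u => ?_⟩
  rw [tCh_linear hT, val, dotProduct, zpow_sum_eq]
  exact Finset.prod_congr rfl fun j _ => by rw [_root_.zpow_mul, ha]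

theorem cast_ne_zero' {ℓ : ℕ} [Fact ℓ.Prime] {ζ : Kˣ} (hζ : orderOf ζ = ℓ)
    (hinj : Function.Injective (torusHom T K)) {f : Fin T.rank → Kˣ} {a : Fin T.rank → ℤ}
    (hval : ∀ u : Fin T.n, tCh T f u.val = ζ ^ val T a u.val) (hf : f ≠ 1) :
    (fun j => (a j : ZMod ℓ)) ≠ 0 := by
  intro h0
  refine hf (hinj (torus_congr hT fun s => ?_))
  rw [hval, show ζ ^ val T a s.val = ζ ^ (0 : ℤ) from by
    rw [zpow_eq_zpow_iff_modEq, hζ, ← ZMod.intCast_eq_intCast_iff, cast_val', h0, zero_dotProduct,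
      Int.cast_zero], zpow_zero]
  simp [tCh]

/-- A Weyl element taking a character to a power makes an eigenvector of the logarithm. -/
theorem eigen_of_twist {ℓ : ℕ} [Fact ℓ.Prime] {ζ : Kˣ} (hζ : orderOf ζ = ℓ) {q : ℕ}
    {f : Fin T.rank → Kˣ} {a : Fin T.rank → ℤ}
    (ha : ∀ u : Fin T.n, tCh T f u.val = ζ ^ val T a u.val) {v : Equiv.Perm (Fin T.n)} (hv : v ∈ T.WP hT)
    (hrel : ∀ u : Fin T.n, tCh T f (v u).val = tCh T f u.val ^ q) :
    (fun j => (a j : ZMod ℓ)) ᵥ* (mat T hT v).map (Int.castRingHom (ZMod ℓ)) =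
      (q : ZMod ℓ) • fun j => (a j : ZMod ℓ) := by
  funext k
  have h1 := hrel (T.simpF hT k)
  rw [ha, ha, ← zpow_natCast (ζ ^ val T a _) q, ← _root_.zpow_mul, val_perm hT hv,
    show (T.simpF hT k).val = T.simple k.val from rfl, val_simple hT, val_simple hT,
    zpow_eq_zpow_iff_modEq, hζ, ← ZMod.intCast_eq_intCast_iff] at h1
  rw [Pi.smul_apply, smul_eq_mul]
  push_cast at h1
  rw [mul_comm, ← h1]
  simp [Matrix.vecMul, dotProduct]

end General

local notation "T7" => Data.E7.tbl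
local notation "hT7" => Data.E7.valid
local notation "hC7" => Data.E7.chkComm

theorem card_W : Nat.card ((T7).WP hT7) = 2903040 := by
  have := Tbl.card_WP hT7 Data.E7.steps_length Data.E7.chkSteps
  rw [show ((Data.E7.steps).map fun L => (L.length : ℤ)).prod = 2903040 by decide +kernel] at this
  exact_mod_cast this

theorem co_ne_zero_five : ∀ s : Fin (T7).n, ∃ j : Fin (T7).rank, ((T7).co s.val j.val : ZMod 5) ≠ 0 := by
  decide +kernel

theorem two_root : IsPrimitiveRoot ((2 : ℕ) : ZMod 13) 12 :=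
  IsPrimitiveRoot.mk_of_lt _ (by norm_num) (by decide) fun l h0 h12 => by interval_cases l <;> decide

section Field

variable {K : Type*} [Field K] [CharP K 2]

theorem torus_inj : Function.Injective (torusHom T7 K) := by
  rw [← MonoidHom.ker_eq_bot_iff, eq_bot_iff]
  intro z hz
  have h2 := Tbl.pow_eq_one_of_torusHom hT7 Data.E7.chkSmith (m := 2) (by decide) (MonoidHom.mem_ker.1 hz)
  rw [Subgroup.mem_bot]
  funext i
  have h3 : (z i : K) ^ 2 = 1 := by
    rw [← Units.val_pow_eq_pow_val, ← Pi.pow_apply, h2, Pi.one_apply, Units.val_one]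
  refine Units.ext ?_
  rcases sq_eq_one_iff.1 h3 with h | h
  · exact h
  · rw [h, CharTwo.neg_eq]; rfl

omit [CharP K 2] in
theorem torus_mem (f : Fin (T7).rank → Kˣ) : torusHom T7 K f ∈ (T7).datum.group K :=
  diag_le_group hT7 (by rw [← torusHom_range hT7]; exact ⟨f, rfl⟩)

variable [Fintype K]

/-- The Weyl element by which squaring acts on a torus conjugate of a rational element. -/
theorem exists_twist (ι : ZMod 2 →+* K) {x : GL (T7).I K} (hx : x ∈ (T7).datum.group K)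
    {t : GL (T7).I (ZMod 2)} {f : Fin (T7).rank → Kˣ} (hf : torusHom T7 K f = x * mapGL T7 ι t * x⁻¹) :
    ∃ v ∈ (T7).WP hT7, ∀ s : Fin (T7).n, tCh T7 f (v s).val = tCh T7 f s.val ^ 2 := by
  have hfix : mapGL T7 (frobenius K 2) (mapGL T7 ι t) = mapGL T7 ι t :=
    Units.ext (Matrix.ext fun i j => by
      show frobenius K 2 (ι _) = ι _
      rw [frobenius_def, ← map_pow, ZMod.pow_card])
  obtain ⟨-, -, -, -, w, hw, -, -, -, -, -, -, hwrel⟩ :=
    decompose hT7 hC7 (mul_mem (map_group (frobenius K 2) hT7 ⟨x, hx, rfl⟩) (inv_mem hx))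
      (f := f) (g := f ^ 2) (by
        rw [map_pow, show torusHom T7 K f ^ 2 = mapGL T7 (frobenius K 2) (torusHom T7 K f) by
          rw [map_torus, ← map_pow]
          exact congrArg _ (funext fun i => Units.ext (by simp [frobenius_def]))]
        rw [hf, map_mul, map_mul, map_inv, hfix]
        group)
  refine ⟨w⁻¹, inv_mem hw, fun s => ?_⟩
  have h1 := hwrel (w⁻¹ s)
  rw [← Equiv.Perm.mul_apply, mul_inv_cancel, Equiv.Perm.one_apply, tCh_pow] at h1
  exact h1.symm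

/-- The stabiliser of an element of order thirteen with its twist has no element of order five. -/
theorem not_five_dvd_fixW (h13K : 13 ∣ Fintype.card K - 1) {f : Fin (T7).rank → Kˣ} (hf : f ^ 13 = 1)
    (hf1 : f ≠ 1) {v : Equiv.Perm (Fin (T7).n)} (hv : v ∈ (T7).WP hT7)
    (hrel : ∀ s : Fin (T7).n, tCh T7 f (v s).val = tCh T7 f s.val ^ 2) :
    ¬ 5 ∣ Nat.card (ToralCentralizer.fixW hT7 f) := by
  classical
  intro h5
  have : Fact (Nat.Prime 13) := ⟨by norm_num⟩
  have : Fact (Nat.Prime 5) := ⟨by norm_num⟩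
  set S := ToralCentralizer.fixW hT7 f
  let _ : Fintype S := Fintype.ofFinite S
  obtain ⟨⟨w, hw⟩, hwo⟩ := exists_prime_orderOf_dvd_card' (G := S) 5 h5
  obtain ⟨ζ, hζ⟩ := exists_prime_orderOf_dvd_card' (G := Kˣ) 13 (by
    rw [Nat.card_units, Nat.card_eq_fintype_card]; exact h13K)
  obtain ⟨a, ha⟩ := exists_log' hT7 hζ hf
  set M := mat T7 hT7 v with hM
  let P : (Fin (T7).rank → ℤ) → Prop := fun x =>
    ∀ u : S, x ᵥ* mat T7 hT7 (u : Equiv.Perm (Fin (T7).n)) = x
  have hP : ∀ x, P x → P (x ᵥ* M) := by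
    intro x hx u
    have hu : v * u * v⁻¹ ∈ S := ⟨mul_mem (mul_mem hv u.2.1) (inv_mem hv), fun s => by
      obtain ⟨r, rfl⟩ := v.surjective s
      rw [Equiv.Perm.mul_apply, Equiv.Perm.mul_apply, ← Equiv.Perm.mul_apply v⁻¹, inv_mul_cancel,
        Equiv.Perm.one_apply, hrel, hrel, u.2.2]⟩
    have h := hx ⟨_, hu⟩
    rw [Matrix.vecMul_vecMul, hM, ← mat_mul hT7 hv,
      show v * (u : Equiv.Perm (Fin (T7).n)) = v * u * v⁻¹ * v by group, mat_mul hT7 hu.1,
      ← Matrix.vecMul_vecMul]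
    rw [h]
  let μ : Fin (T7).rank → ℤ := ∑ u : S, a ᵥ* mat T7 hT7 (u : Equiv.Perm (Fin (T7).n))
  have hμ : P μ := fun u => by
    show (∑ u' : S, a ᵥ* _) ᵥ* _ = _
    rw [Matrix.sum_vecMul]
    refine Fintype.sum_equiv (Equiv.mulRight u) _ _ fun u' => ?_
    rw [Equiv.coe_mulRight, Subgroup.coe_mul, mat_mul hT7 u'.2.1, Matrix.vecMul_vecMul]
  set a13 : Fin (T7).rank → ZMod 13 := fun j => (a j : ZMod 13) with ha13
  have hμ13 : (fun j => (μ j : ZMod 13)) = (Fintype.card S : ZMod 13) • a13 := by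
    funext j
    have h : ∀ u : S, ((a ᵥ* mat T7 hT7 (u : Equiv.Perm (Fin (T7).n))) j : ZMod 13) = a13 j := fun u => by
      have := congrFun (eigen_of_twist hT7 hζ (q := 1) ha u.2.1 fun s => by rw [u.2.2, pow_one]) j
      rw [Nat.cast_one, one_smul] at this
      rw [ha13]
      refine Eq.trans ?_ this
      simp [Matrix.vecMul, dotProduct]
    simp [μ, Finset.sum_apply, h]
  have hS13 : (Fintype.card S : ZMod 13) ≠ 0 := by
    rw [Ne, ZMod.natCast_eq_zero_iff, ← Nat.card_eq_fintype_card]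
    intro h
    have := h.trans (Subgroup.card_dvd_of_le (show S ≤ (T7).WP hT7 from fun u hu => hu.1))
    rw [card_W] at this
    omega
  obtain ⟨ν, hν, hν0, hkill⟩ := F4Graph.exists_killed M (SylowTorus.mat_orderOf hT7 hv) (orderOf_pos v)
    (fun h => by
      have := h.trans (Subgroup.orderOf_dvd_natCard _ hv)
      rw [card_W] at this
      omega)
    (ℓ := 13) (q := 2) (e := 12) two_root
    P (fun u => Matrix.zero_vecMul _) (fun x y hx hy u => by rw [Matrix.add_vecMul, hx, hy])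
    (fun c x hx u => by rw [Matrix.smul_vecMul, hx]) hP hμ
    (by rw [hμ13]; exact smul_ne_zero hS13 (cast_ne_zero' hT7 hζ torus_inj ha hf1))
    (by rw [hμ13, Matrix.smul_vecMul, eigen_of_twist hT7 hζ ha hv hrel, smul_comm])
  have hw5 : w ^ 5 = 1 := by
    rw [← Subgroup.orderOf_coe] at hwo
    rw [← hwo]
    exact pow_orderOf_eq_one w
  refine no_fixed (M := M) (W := mat T7 hT7 w) ((mat_pow hT7 hw.1 5).symm.trans (by rw [hw5, mat_one hT7]; rfl))
    (fun h => ?_) hν0 hkill fun i => ?_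
  · have := SylowTorus.mat_inj hT7 hw.1 (one_mem _) (h.trans (mat_one hT7).symm)
    rw [← Subgroup.orderOf_coe, show ((⟨w, hw⟩ : S) : Equiv.Perm (Fin (T7).n)) = w from rfl, this,
      orderOf_one] at hwo
    omega
  · have hi : ∀ i : ℕ, P (ν ᵥ* M ^ i) := by
      intro i
      induction i with
      | zero => simpa using hν
      | succ i ih => rw [pow_succ, ← Matrix.vecMul_vecMul]; exact hP _ ih
    exact hi i ⟨w, hw⟩

end Field

/-- There is no element of order sixty-five. -/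
theorem no_sixty_five {g : GL (T7).I (ZMod 2)} (hg : g ∈ (T7).datum.group (ZMod 2)) : orderOf g ≠ 65 := by
  classical
  intro hgo
  have h13 : Fact (Nat.Prime 13) := ⟨by norm_num⟩
  have h5 : Fact (Nat.Prime 5) := ⟨by norm_num⟩
  let K := GaloisField 2 12
  let _ : Fintype K := Fintype.ofFinite K
  have hK : Fintype.card K = 4096 := by
    rw [← Nat.card_eq_fintype_card, GaloisField.card 2 12 (by norm_num)]
    norm_num
  let ι : ZMod 2 →+* K := algebraMap (ZMod 2) K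
  have hord : ∀ a b : ℕ, a.Prime → a * b = 65 → orderOf (mapGL T7 ι (g ^ b)) = a := by
    intro a b ha hab
    have : Fact a.Prime := ⟨ha⟩
    rw [orderOf_injective _ (mapGL_inj ι)]
    refine orderOf_eq_prime (by rw [← pow_mul, mul_comm, hab, ← hgo, pow_orderOf_eq_one]) fun h => ?_
    have h1 := Nat.le_of_dvd (Nat.pos_of_mul_pos_left (by rw [hab]; norm_num))
      (orderOf_dvd_of_pow_eq_one h)
    rw [hgo, ← hab] at h1
    have hb : 0 < b := Nat.pos_of_mul_pos_left (by rw [hab]; norm_num)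
    nlinarith [ha.two_le]
  set t13 := mapGL T7 ι (g ^ 5) with ht13
  set t5 := mapGL T7 ι (g ^ 13) with ht5
  have ht13o : orderOf t13 = 13 := hord 13 5 (by norm_num) (by norm_num)
  have ht5o : orderOf t5 = 5 := hord 5 13 (by norm_num) (by norm_num)
  have ht13G : t13 ∈ (T7).datum.group K := map_group ι hT7 ⟨_, pow_mem hg 5, rfl⟩
  have ht5G : t5 ∈ (T7).datum.group K := map_group ι hT7 ⟨_, pow_mem hg 13, rfl⟩
  have h13K : 13 ∣ Fintype.card K - 1 := by rw [hK]; norm_num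
  have h5K : 5 ∣ Fintype.card K - 1 := by rw [hK]; norm_num
  set D := (T7).datum.diagonalSubgroup K with hD
  -- the element of order thirteen in the torus
  obtain ⟨x, f2, hx, hf2⟩ : ∃ x f2, x ∈ (T7).datum.group K ∧ torusHom T7 K f2 = x * t13 * x⁻¹ := by
    obtain ⟨c, hc⟩ := Twist.ToriGen.conj_into (p := 13) (G := ↥((T7).datum.group K))
      (D.subgroupOf ((T7).datum.group K)) (by
        rw [Nat.card_congr (Subgroup.subgroupOfEquivOfLe (diag_le_group hT7)).toEquiv,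
          card_flag_dvd hT7 hC7 h13K (by rw [card_W]; norm_num)])
      (k := 1) (y := ⟨t13, ht13G⟩) (by rw [← Subgroup.orderOf_coe, pow_one]; exact ht13o)
    rw [Subgroup.mem_subgroupOf, hD, ← torusHom_range hT7] at hc
    obtain ⟨f, hf⟩ := hc
    exact ⟨c, f, c.2, hf⟩
  have hpow : ∀ (ℓ : ℕ) (t y : GL (T7).I K) (f : Fin (T7).rank → Kˣ), torusHom T7 K f = y * t * y⁻¹ →
      orderOf t = ℓ → f ^ ℓ = 1 := fun ℓ t y f hf ho => torus_inj (by
    rw [map_pow, hf, _root_.conj_pow, ← ho, pow_orderOf_eq_one]; simp)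
  have hne : ∀ (ℓ : ℕ) (t y : GL (T7).I K) (f : Fin (T7).rank → Kˣ), torusHom T7 K f = y * t * y⁻¹ →
      orderOf t = ℓ → ℓ ≠ 1 → f ≠ 1 := by
    rintro ℓ t y f hf ho hℓ rfl
    rw [map_one, eq_comm, conj_eq_one_iff] at hf
    exact hℓ (by rw [← ho, hf, orderOf_one])
  have hf2p := hpow 13 t13 x f2 hf2 ht13o
  obtain ⟨v2, hv2, hrel2⟩ := exists_twist ι hx hf2
  have hS := not_five_dvd_fixW h13K hf2p (hne 13 t13 x f2 hf2 ht13o (by norm_num)) hv2 hrel2
  -- the element of order five in the torus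
  set A := (T7).datum.group K ⊓ Subgroup.centralizer {torusHom T7 K f2} with hA
  have hcomm : t5 * t13 = t13 * t5 := by
    rw [ht5, ht13, ← map_mul, ← map_mul, ← pow_add, ← pow_add]
  have hDA : D ≤ A := fun d hd => ⟨diag_le_group hT7 hd, Subgroup.mem_centralizer_singleton_iff.2 (by
    rw [hD, ← torusHom_range hT7] at hd
    obtain ⟨h, rfl⟩ := hd
    rw [← map_mul, ← map_mul, mul_comm])⟩
  have hyA : x * t5 * x⁻¹ ∈ A := Subgroup.mem_inf.2 ⟨mul_mem (mul_mem hx ht5G) (inv_mem hx),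
    Subgroup.mem_centralizer_singleton_iff.2 (by
      rw [hf2]
      calc _ = x * (t5 * t13) * x⁻¹ := by group
        _ = x * (t13 * t5) * x⁻¹ := by rw [hcomm]
        _ = _ := by group)⟩
  obtain ⟨z, hz⟩ := Twist.ToriGen.conj_into (p := 5) (G := ↥A) (D.subgroupOf A) (by
      rw [Nat.card_congr (Subgroup.subgroupOfEquivOfLe hDA).toEquiv, hA,
        ToralCentralizer.factorization_centralizer hT7 hC7 h5K torus_inj co_ne_zero_five f2 hS])
    (k := 1) (y := ⟨_, hyA⟩) (by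
      rw [← Subgroup.orderOf_coe, pow_one]
      show orderOf (MulAut.conj x t5) = 5
      rw [MulEquiv.orderOf_eq, ht5o])
  rw [Subgroup.mem_subgroupOf, hD, ← torusHom_range hT7] at hz
  obtain ⟨f1, hf1⟩ := hz
  set y : GL (T7).I K := (z : GL (T7).I K) * x with hy
  have hyG : y ∈ (T7).datum.group K := mul_mem z.2.1 hx
  have hy1 : torusHom T7 K f1 = y * t5 * y⁻¹ := by
    rw [hf1, hy]
    show _ * (x * t5 * x⁻¹) * (z : GL (T7).I K)⁻¹ = _
    group
  have hy2 : torusHom T7 K f2 = y * t13 * y⁻¹ := by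
    calc torusHom T7 K f2 = (z : GL (T7).I K) * torusHom T7 K f2 * (z : GL (T7).I K)⁻¹ := by
          rw [Subgroup.mem_centralizer_singleton_iff.1 z.2.2, mul_inv_cancel_right]
      _ = _ := by rw [hf2, hy]; group
  have hf1p := hpow 5 t5 y f1 hy1 ht5o
  obtain ⟨v, hv, hrel⟩ := exists_twist ι hyG (t := g ^ 13 * g ^ 5) (f := f1 * f2) (by
    rw [map_mul, map_mul, hy1, hy2, ht5, ht13]
    group)
  have key : ∀ (ℓ k : ℕ) (f f' : Fin (T7).rank → Kˣ), f ^ ℓ = 1 → f' ^ k = 1 → ℓ.Coprime k →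
      (∀ s : Fin (T7).n, tCh T7 (f * f') (v s).val = tCh T7 (f * f') s.val ^ 2) →
      ∀ s : Fin (T7).n, tCh T7 f (v s).val = tCh T7 f s.val ^ 2 := by
    intro ℓ k f f' hfℓ hfk hcop hr s
    have hf' : ∀ u, tCh T7 f' u ^ k = 1 := fun u => by rw [← tCh_pow, hfk]; simp [tCh]
    have hf : ∀ u, tCh T7 f u ^ ℓ = 1 := fun u => by rw [← tCh_pow, hfℓ]; simp [tCh]
    have h1 := congrArg (· ^ k) (hr s)
    simp only [tCh_mul', mul_pow, hf', mul_one, pow_right_comm _ 2 k, one_pow] at h1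
    rw [← mul_inv_eq_one]
    have h2 : (tCh T7 f (v s).val * (tCh T7 f s.val ^ 2)⁻¹) ^ ℓ = 1 := by
      rw [mul_pow, hf, one_mul, inv_pow, pow_right_comm, hf, one_pow, inv_one]
    have h3 : (tCh T7 f (v s).val * (tCh T7 f s.val ^ 2)⁻¹) ^ k = 1 := by
      rw [mul_pow, h1, inv_pow, pow_right_comm, mul_inv_cancel]
    have h4 := pow_gcd_eq_one.2 ⟨h2, h3⟩
    rwa [hcop.gcd_eq_one, pow_one] at h4
  obtain ⟨ζ, hζ⟩ := exists_prime_orderOf_dvd_card' (G := Kˣ) 13 (by
    rw [Nat.card_units, Nat.card_eq_fintype_card]; exact h13K)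
  obtain ⟨ξ, hξ⟩ := exists_prime_orderOf_dvd_card' (G := Kˣ) 5 (by
    rw [Nat.card_units, Nat.card_eq_fintype_card]; exact h5K)
  obtain ⟨a, ha⟩ := exists_log' hT7 hζ hf2p
  obtain ⟨b, hb⟩ := exists_log' hT7 hξ hf1p
  exact no_four_twelve hv (cast_ne_zero' hT7 hζ torus_inj ha (hne 13 t13 x f2 hf2 ht13o (by norm_num)))
    (eigen_of_twist hT7 hζ ha hv (key 13 5 f2 f1 hf2p hf1p (by norm_num) fun s => by
      rw [mul_comm f2 f1]; exact hrel s))
    (cast_ne_zero' hT7 hξ torus_inj hb (hne 5 t5 y f1 hy1 ht5o (by norm_num)))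
    (eigen_of_twist hT7 hξ hb hv (key 5 13 f1 f2 hf1p hf2p (by norm_num) hrel))

end CfsgLib.Chevalley.E7SixtyFive
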