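import Cfsg.Agent.Lib.Chevalley.SylowTorus.Cases
import Cfsg.Agent.Lib.Chevalley.F4Graph.Lattice

/-!
Elements of W(E7) with eigenvalues of orders four and twelve, and the fixed points of elements of order five.
-/

set_option autoImplicit false
set_option maxRecDepth 20000

namespace CfsgLib.Chevalley.E7SixtyFive

open Tbl hiding X
open CoxeterTorus SylowTorus Polynomial
open scoped Matrix

/-- An element of order five fixes no vector killed by `Φ₁₂` of a matrix preserving its fixed vectors. -/
theorem no_fixed {M W : Matrix (Fin 7) (Fin 7) ℤ} (hW : W ^ 5 = 1) (hW1 : W ≠ 1) {ν : Fin 7 → ℤ}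
    (hν : ν ≠ 0) (hkill : ν ᵥ* aeval M (cyclotomic 12 ℤ) = 0)
    (hfix : ∀ i : ℕ, (ν ᵥ* M ^ i) ᵥ* W = ν ᵥ* M ^ i) : False := by
  classical
  obtain ⟨L, hL, hp⟩ := exists_cyclotomic_list (show 0 < 5 by norm_num) _ W.charpoly le_rfl
    (Matrix.charpoly_monic W) fun z hz => root_pow_eq_one W hW hz
  have h5L : 5 ∈ L := by
    by_contra h5
    refine hW1 (sub_eq_zero.1 ?_)
    have h1 := kill W hW (by norm_num) (Q := X - 1) (k := L.length) (fun e => ?_) (by
      rw [hp, ← cyclotomic_one ℤ]
      have hall : ∀ k ∈ L, k = 1 := fun k hk => by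
        rcases (Nat.dvd_prime (by norm_num : Nat.Prime 5)).1 (hL k hk) with h | h
        · exact h
        · exact absurd (h ▸ hk) h5
      rw [show L = List.replicate L.length 1 from List.eq_replicate_iff.2 ⟨rfl, hall⟩, List.map_replicate,
        List.prod_replicate, List.length_replicate])
    · simpa using h1
    · rw [List.length_eq_zero_iff] at e
      subst e
      simp at hp
      have := congrArg natDegree hp
      rw [Matrix.charpoly_natDegree_eq_dim, natDegree_one, Fintype.card_fin] at this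
      omega
  obtain ⟨g, hg⟩ : cyclotomic 5 ℤ ∣ W.charpoly := hp ▸ List.dvd_prod (List.mem_map.2 ⟨5, h5L, rfl⟩)
  set MQ := M.map (Int.castRingHom ℚ) with hMQ
  set WQ := W.map (Int.castRingHom ℚ) with hWQ
  set g' := g.map (Int.castRingHom ℚ) with hg'
  have hchar : WQ.charpoly = cyclotomic 5 ℚ * g' := by
    rw [hWQ, Matrix.charpoly_map, hg, Polynomial.map_mul, map_cyclotomic]
  have hne : cyclotomic 5 ℚ * g' ≠ 0 := hchar ▸ (Matrix.charpoly_monic WQ).ne_zero
  have hdeg : g'.natDegree ≤ 3 := by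
    have := congrArg natDegree hchar
    rw [natDegree_mul (cyclotomic_ne_zero 5 ℚ) (right_ne_zero_of_mul hne), natDegree_cyclotomic,
      Matrix.charpoly_natDegree_eq_dim, Fintype.card_fin, Nat.totient_prime (by norm_num : Nat.Prime 5)] at this
    omega
  have hmult : rootMultiplicity (1 : ℚ) WQ.charpoly ≤ 3 := by
    rw [hchar, rootMultiplicity_mul hne,
      rootMultiplicity_eq_zero (fun h => by
        have h1 := (isRoot_cyclotomic_iff (R := ℚ) (n := 5)).1 h
        exact absurd (h1.unique IsPrimitiveRoot.one) (by norm_num)), zero_add, ← count_roots]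
    exact (Multiset.count_le_card _ _).trans ((card_roots' g').trans hdeg)
  set f : Module.End ℚ (Fin 7 → ℚ) := Matrix.toLin' WQᵀ
  set ν' : Fin 7 → ℚ := fun j => (ν j : ℚ) with hν'
  have hcast : ∀ (x : Fin 7 → ℤ) (A : Matrix (Fin 7) (Fin 7) ℤ),
      (fun j => ((x ᵥ* A) j : ℚ)) = (fun j => (x j : ℚ)) ᵥ* A.map (Int.castRingHom ℚ) := fun x A => by
    funext j
    simp [Matrix.vecMul, dotProduct]
  have hpow : ∀ i : ℕ, ν' ᵥ* MQ ^ i = fun j => ((ν ᵥ* M ^ i) j : ℚ) := fun i => by
    rw [hcast, hMQ, ← RingHom.mapMatrix_apply, ← map_pow]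
    rfl
  let y : Fin 4 → f.eigenspace 1 := fun i => ⟨ν' ᵥ* MQ ^ i.val, by
    rw [Module.End.mem_eigenspace_iff, Matrix.toLin'_apply, Matrix.mulVec_transpose, one_smul, hpow, hWQ,
      ← hcast, hfix]⟩
  have hind : LinearIndependent ℚ y := by
    rw [Fintype.linearIndependent_iff]
    intro c hc
    let P : ℚ[X] := ∑ i : Fin 4, C (c i) * X ^ i.val
    have h1 : ν' ᵥ* aeval MQ P = 0 := by
      have h2 := congrArg Subtype.val hc
      simp only [y, Submodule.coe_sum, Submodule.coe_smul, Submodule.coe_zero] at h2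
      rw [← h2]
      simp only [P, map_sum, map_mul, aeval_C, aeval_X, map_pow, Algebra.algebraMap_eq_smul_one, smul_one_mul,
        Matrix.vecMul_sum, Matrix.vecMul_smul]
    have h12 : ν' ᵥ* aeval MQ (cyclotomic 12 ℚ) = 0 := by
      have e : aeval MQ (cyclotomic 12 ℚ) = (Int.castRingHom ℚ).mapMatrix (aeval M (cyclotomic 12 ℤ)) := by
        rw [← map_cyclotomic 12 (Int.castRingHom ℚ), ← algebraMap_int_eq, aeval_map_algebraMap]
        exact aeval_algHom_apply
          ((Int.castRingHom ℚ).mapMatrix : Matrix (Fin 7) (Fin 7) ℤ →+* Matrix (Fin 7) (Fin 7) ℚ).toIntAlgHom M _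
      rw [e, RingHom.mapMatrix_apply, hν', ← hcast, hkill]
      funext j
      simp
    have hP : P = 0 := by
      by_contra hP0
      have hPd : P.natDegree ≤ 3 := by
        refine natDegree_sum_le_of_forall_le _ _ fun i _ => ?_
        exact (natDegree_C_mul_X_pow_le _ _).trans (by omega)
      obtain ⟨u, w, huw⟩ := (cyclotomic.irreducible_rat (by norm_num : 0 < 12)).coprime_iff_not_dvd.2
        (fun hd => by
          have := natDegree_le_of_dvd hd hP0
          rw [natDegree_cyclotomic, show (12 : ℕ).totient = 4 by decide] at this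
          omega)
      have h2 := congrArg (fun Q => ν' ᵥ* aeval MQ Q) huw
      simp only [map_one, Matrix.vecMul_one, mul_comm u, mul_comm w, map_add, map_mul, Matrix.vecMul_add,
        ← Matrix.vecMul_vecMul, h1, h12, Matrix.zero_vecMul, add_zero] at h2
      exact hν (funext fun j => by simpa [hν'] using (congrFun h2 j).symm)
    intro i
    have h3 := congrArg (fun Q : ℚ[X] => Q.coeff i.val) hP
    simp only [P, finsetSum_coeff, coeff_C_mul, coeff_X_pow, mul_ite, mul_one, mul_zero, coeff_zero,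
      Fin.val_inj, Finset.sum_ite_eq, Finset.mem_univ, if_true] at h3
    exact h3
  have h4 := hind.fintype_card_le_finrank
  rw [Fintype.card_fin] at h4
  have h5 := LinearMap.finrank_eigenspace_le f 1
  rw [show f.charpoly = WQ.charpoly by rw [Matrix.charpoly_toLin', Matrix.charpoly_transpose]] at h5
  omega

local instance factThirteen : Fact (Nat.Prime 13) := ⟨by norm_num⟩

local instance factFive : Fact (Nat.Prime 5) := ⟨by norm_num⟩

open Data.E7 in
/-- No element has eigenvalues of order twelve and four. -/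
theorem no_four_twelve {v : Equiv.Perm (Fin tbl.n)} (hv : v ∈ tbl.WP valid) {a : Fin tbl.rank → ZMod 13}
    (ha : a ≠ 0) (hae : a ᵥ* (mat tbl valid v).map (Int.castRingHom (ZMod 13)) = (2 : ZMod 13) • a)
    {b : Fin tbl.rank → ZMod 5} (hb : b ≠ 0)
    (hbe : b ᵥ* (mat tbl valid v).map (Int.castRingHom (ZMod 5)) = (2 : ZMod 5) • b) : False := by
  classical
  set M := mat tbl valid v with hM
  have hN := mat_orderOf valid hv
  have hW : ∀ r : ℕ, r.Prime → 5 < r → r ∣ Nat.card (tbl.WP valid) → r = 7 := by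
    intro r hr h5r hd
    have hc : Nat.card (tbl.WP valid) = 2903040 := by
      have := Tbl.card_WP valid Data.E7.steps_length Data.E7.chkSteps
      rw [show ((Data.E7.steps).map fun L => (L.length : ℤ)).prod = 2903040 by decide +kernel] at this
      exact_mod_cast this
    rw [hc, show (2903040 : ℕ) = 2 ^ 10 * 3 ^ 4 * 5 * 7 by norm_num] at hd
    rcases hr.dvd_mul.1 hd with h | h
    · rcases hr.dvd_mul.1 h with h | h
      · rcases hr.dvd_mul.1 h with h | h
        · exact absurd (Nat.le_of_dvd (by norm_num) (hr.dvd_of_dvd_pow h)) (by omega)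
        · exact absurd (Nat.le_of_dvd (by norm_num) (hr.dvd_of_dvd_pow h)) (by omega)
      · exact absurd (Nat.le_of_dvd (by norm_num) h) (by omega)
    · exact (Nat.prime_dvd_prime_iff_eq hr (by norm_num)).1 h
  have h13N : ∀ u ∈ tbl.WP valid, ¬ 13 ∣ orderOf u := fun u hu h => absurd (hW 13 (by norm_num) (by norm_num)
    (h.trans (Subgroup.orderOf_dvd_natCard _ hu))) (by norm_num)
  -- a cyclotomic factor from an eigenvector
  have h12 : cyclotomic 12 ℤ ∣ M.charpoly := by
    have := cyclotomic_pow_dvd M hN (r := 13) (d := 12) (a := 0) (h13N v hv) (t := 2)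
      (IsPrimitiveRoot.mk_of_lt _ (by norm_num) (by decide) fun l h0 h12 => by interval_cases l <;> decide)
      (by norm_num) (by
        rw [pow_zero]
        exact Finite.one_lt_card_iff_nontrivial.2 ⟨⟨a, hae⟩, ⟨0, by simp⟩, fun h => ha (congrArg Subtype.val h)⟩)
    simpa using this
  have hp4 : ∀ {r : ℕ} [Fact r.Prime] (t : ZMod r), (t ^ 4 = 1) → (∀ l, 0 < l → l < 4 → t ^ l ≠ 1) →
      IsPrimitiveRoot t 4 := fun t h1 h2 => IsPrimitiveRoot.mk_of_lt _ (by norm_num) h1 fun l a b => h2 l a b
  -- the root eight of the fourth cyclotomic polynomial modulo thirteen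
  have h4 : cyclotomic 4 ℤ ∣ M.charpoly := by
    obtain ⟨L, hL, hp⟩ := exists_cyclotomic_list (orderOf_pos v) _ M.charpoly le_rfl (Matrix.charpoly_monic M)
      fun z hz => root_pow_eq_one M hN hz
    have hroot : (M.charpoly.map (Int.castRingHom (ZMod 5))).eval 2 = 0 := by
      rw [← Matrix.charpoly_map, Matrix.eval_charpoly]
      refine Matrix.exists_vecMul_eq_zero_iff.1 ⟨b, hb, ?_⟩
      rw [Matrix.vecMul_sub, hbe, sub_eq_zero]
      funext j
      simp [Matrix.vecMul, dotProduct, Matrix.scalar, Matrix.diagonal, mul_comm]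
    rw [hp, Polynomial.map_list_prod, eval_list_prod, List.prod_eq_zero_iff, List.map_map, List.map_map,
      List.mem_map] at hroot
    obtain ⟨k, hk, hk0⟩ := hroot
    simp only [Function.comp_apply, map_cyclotomic] at hk0
    obtain ⟨j, k', hk5, rfl⟩ := Nat.exists_eq_pow_mul_and_not_dvd (n := k) (fun h => by
      subst h
      simp at hk0) 5 (by norm_num)
    have : NeZero (k' : ZMod 5) := ⟨fun h => hk5 ((ZMod.natCast_eq_zero_iff k' 5).1 h)⟩
    have h2 : IsPrimitiveRoot (2 : ZMod 5) k' := isRoot_cyclotomic_prime_pow_mul_iff_of_charP.1 hk0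
    obtain rfl := h2.unique (hp4 (2 : ZMod 5) (by decide) fun l h0 h4 => by interval_cases l <;> decide)
    rw [hp]
    rcases Nat.eq_zero_or_pos j with rfl | hj
    · refine List.dvd_prod (List.mem_map.2 ⟨4, ?_, rfl⟩)
      simpa using hk
    · exfalso
      have hkd := hL _ hk
      have hfix : (5 : ℕ) ^ j * 4 ∣ orderOf v := hkd
      have h20 : 20 ∣ orderOf v := (Nat.mul_dvd_mul_right (dvd_pow_self 5 hj.ne') 4).trans hfix
      have htot := hp ▸ Matrix.charpoly_natDegree_eq_dim M
      have hdeg : (cyclotomic (5 ^ j * 4) ℤ).natDegree ≤ M.charpoly.natDegree :=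
        natDegree_le_of_dvd (hp ▸ List.dvd_prod (List.mem_map.2 ⟨_, hk, rfl⟩))
          (Matrix.charpoly_monic M).ne_zero
      rw [natDegree_cyclotomic, Matrix.charpoly_natDegree_eq_dim, Fintype.card_fin,
        Nat.totient_mul (Nat.Coprime.pow_left _ (by norm_num)), Nat.totient_prime_pow (by norm_num) hj,
        show tbl.rank = 7 from rfl, show (4 : ℕ).totient = 2 by decide] at hdeg
      have := Nat.one_le_pow (j - 1) 5 (by norm_num)
      omega
  -- eigenvectors modulo thirteen
  set M13 := M.map (Int.castRingHom (ZMod 13)) with hM13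
  have heig : ∀ (k : ℕ), 0 < k → ∀ (t : ZMod 13), IsPrimitiveRoot t k → cyclotomic k ℤ ∣ M.charpoly →
      ∃ y : Fin tbl.rank → ZMod 13, y ≠ 0 ∧ y ᵥ* M13 = t • y := by
    intro k hk0 t ht hd
    obtain ⟨g, hg⟩ := hd
    have hroot : (M.charpoly.map (Int.castRingHom (ZMod 13))).eval t = 0 := by
      rw [hg, Polynomial.map_mul, eval_mul, map_cyclotomic, (ht.isRoot_cyclotomic hk0).eq_zero, zero_mul]
    rw [← Matrix.charpoly_map, Matrix.eval_charpoly] at hroot
    obtain ⟨y, hy0, hy⟩ := Matrix.exists_vecMul_eq_zero_iff.2 hroot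
    rw [Matrix.vecMul_sub, sub_eq_zero] at hy
    refine ⟨y, hy0, hy.symm.trans ?_⟩
    funext j
    simp [Matrix.vecMul, dotProduct, Matrix.scalar, Matrix.diagonal, mul_comm]
  obtain ⟨y7, h70, h7⟩ := heig 12 (by norm_num) 7
    (IsPrimitiveRoot.mk_of_lt _ (by norm_num) (by decide) fun l h0 h12 => by interval_cases l <;> decide) h12
  obtain ⟨y11, h110, h11⟩ := heig 12 (by norm_num) 11
    (IsPrimitiveRoot.mk_of_lt _ (by norm_num) (by decide) fun l h0 h12 => by interval_cases l <;> decide) h12
  obtain ⟨y8, h80, h8⟩ := heig 4 (by norm_num) 8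
    (hp4 (8 : ZMod 13) (by decide) fun l h0 h4 => by interval_cases l <;> decide) h4
  have hcube : ∀ (y : Fin tbl.rank → ZMod 13) (t : ZMod 13), y ᵥ* M13 = t • y →
      y ᵥ* (mat tbl valid (v ^ 3)).map (Int.castRingHom (ZMod 13)) = t ^ 3 • y := by
    intro y t hy
    rw [mat_pow valid hv, ← RingHom.mapMatrix_apply, map_pow, RingHom.mapMatrix_apply, ← hM, ← hM13, pow_three,
      ← Matrix.vecMul_vecMul, ← Matrix.vecMul_vecMul, hy, Matrix.smul_vecMul, hy, smul_smul,
      Matrix.smul_vecMul, hy, smul_smul]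
    congr 1
    ring
  refine E7.four (pow_mem hv 3) ?_
  refine cyclotomic_pow_dvd (a := 2) _ (mat_orderOf valid (pow_mem hv 3)) (r := 13) (h13N _ (pow_mem hv 3))
    (t := 5) (hp4 (5 : ZMod 13) (by decide) fun l h0 h4 => by interval_cases l <;> decide) (by norm_num) ?_
  set Z := {y : Fin tbl.rank → ZMod 13 //
    y ᵥ* (mat tbl valid (v ^ 3)).map (Int.castRingHom (ZMod 13)) = (5 : ZMod 13) • y}
  let F : (Fin 3 → ZMod 13) → Z := fun c => ⟨c 0 • y8 + c 1 • y7 + c 2 • y11, by
    rw [Matrix.add_vecMul, Matrix.add_vecMul, Matrix.smul_vecMul, Matrix.smul_vecMul, Matrix.smul_vecMul,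
      hcube y8 8 h8, hcube y7 7 h7, hcube y11 11 h11, show (8 : ZMod 13) ^ 3 = 5 by decide,
      show (7 : ZMod 13) ^ 3 = 5 by decide, show (11 : ZMod 13) ^ 3 = 5 by decide, smul_add, smul_add,
      smul_comm (c 0), smul_comm (c 1), smul_comm (c 2)]⟩
  have hF : Function.Injective F := by
    intro c c' h
    have h0 : (c 0 - c' 0) • y8 + (c 1 - c' 1) • y7 + (c 2 - c' 2) • y11 = 0 := by
      have := sub_eq_zero.2 (congrArg Subtype.val h)
      rw [← this]
      simp only [F, sub_smul]
      abel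
    set x := c 0 - c' 0
    set y := c 1 - c' 1
    set z := c 2 - c' 2
    have h1 := congrArg (· ᵥ* M13) h0
    simp only [Matrix.add_vecMul, Matrix.smul_vecMul, h8, h7, h11, Matrix.zero_vecMul, smul_smul] at h1
    have h2 := congrArg (· ᵥ* M13) h1
    simp only [Matrix.add_vecMul, Matrix.smul_vecMul, h8, h7, h11, Matrix.zero_vecMul, smul_smul] at h2
    have key : ∀ i, x * y8 i = 0 ∧ y * y7 i = 0 ∧ z * y11 i = 0 := fun i => by
      have e0 := congrFun h0 i
      have e1 := congrFun h1 i
      have e2 := congrFun h2 i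
      simp only [Pi.add_apply, Pi.smul_apply, smul_eq_mul, Pi.zero_apply] at e0 e1 e2
      have k1 : (8 : ZMod 13) * 8 - 18 * 8 + 77 = 10 := by decide
      have k2 : (7 : ZMod 13) * 7 - 19 * 7 + 88 = 4 := by decide
      have k3 : (11 : ZMod 13) * 11 - 15 * 11 + 56 = 12 := by decide
      have a1 : (10 : ZMod 13) * (x * y8 i) = 0 := by linear_combination e2 - 18 * e1 + 77 * e0 - (x * y8 i) * k1
      have a2 : (4 : ZMod 13) * (y * y7 i) = 0 := by linear_combination e2 - 19 * e1 + 88 * e0 - (y * y7 i) * k2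
      have a3 : (12 : ZMod 13) * (z * y11 i) = 0 := by linear_combination e2 - 15 * e1 + 56 * e0 - (z * y11 i) * k3
      exact ⟨(mul_eq_zero.1 a1).resolve_left (by decide), (mul_eq_zero.1 a2).resolve_left (by decide),
        (mul_eq_zero.1 a3).resolve_left (by decide)⟩
    have hz : ∀ (s : ZMod 13) (u : Fin tbl.rank → ZMod 13), u ≠ 0 → (∀ i, s * u i = 0) → s = 0 := fun s u hu h => by
      obtain ⟨i, hi⟩ := Function.ne_iff.1 hu
      exact (mul_eq_zero.1 (h i)).resolve_right hi
    funext i
    fin_cases i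
    · exact sub_eq_zero.1 (hz x y8 h80 fun i => (key i).1)
    · exact sub_eq_zero.1 (hz y y7 h70 fun i => (key i).2.1)
    · exact sub_eq_zero.1 (hz z y11 h110 fun i => (key i).2.2)
  have := Nat.card_le_card_of_injective F hF
  rw [Nat.card_fun, Nat.card_zmod, Nat.card_fin] at this
  exact lt_of_lt_of_le (by norm_num) this

end CfsgLib.Chevalley.E7SixtyFive
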